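import Cfsg.Agent.H248.Cov.Sp8
import Cfsg.Agent.S5824

/-!
# Subgroups of `Sp₈(q)` with elements of orders `r₈` and `r₆` (S3691, piece S1, helper559)
-/

set_option autoImplicit false
set_option linter.unusedSectionVars false

namespace Cfsg.Agent.H559.Rs

open Cfsg Cfsg.Geo Matrix Module
open Cfsg.Agent.ClassicalGeometry.SympBasic Cfsg.Agent.H876 Cfsg.Agent.H931
open Cfsg.Agent.H262.El
open Cfsg.Agent.H884.El (PP)
open Cfsg.Agent.H248.Cov
open scoped MatrixGroups

variable {F : Type} [Field F] [Fintype F] {p f r s : ℕ}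

theorem exists_max' {A : Type*} [Group A] [Finite A] {K H : Subgroup A} (h : H < K) : ∃ M, IsMaximalIn K M ∧ H ≤ M := by
  obtain ⟨M, hHM, hM⟩ := (Set.toFinite {N : Subgroup A | N < K}).exists_le_maximal h
  refine ⟨M, ⟨hM.prop, fun N hMN hNK => ?_⟩, hHM⟩
  by_cases hN : N = K
  · exact Or.inr hN
  · exact Or.inl (hM.eq_of_le (lt_of_le_of_ne hNK hN) hMN).symm

/-- `q` even, `q ≥ 4`: maximal subgroups of `Sp₈(q)` with an element of order `r₈` -/
theorem even_cases (hp : p.Prime) (hf : 1 ≤ f) (hF : Fintype.card F = p ^ f) (hq : 4 ≤ Fintype.card F)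
    (he : ¬ Odd (Fintype.card F)) (hr : PP p (f * 8) r) {M : Subgroup (GL (Fin 4 ⊕ Fin 4) F)}
    (hM : IsMaximalIn (spGL 4 F) M) {y : GL (Fin 4 ⊕ Fin 4) F} (hy : y ∈ M) (hyr : y ^ r = 1) (hy1 : y ≠ 1) :
    (∃ K : Subalgebra F (Matrix (Fin 4 ⊕ Fin 4) (Fin 4 ⊕ Fin 4) F), IsFieldSubalgebra 2 K ∧
      IsSelfAdjointFor (sympForm 4 F) K ∧ M ≤ subalgebraNormalizer K) ∨
    (∃ Q : (Fin 4 ⊕ Fin 4 → F) → F, IsNondegenerateQuadraticForm Q ∧ (∀ u v, QuadraticMap.polar Q u v = sympForm 4 F u v) ∧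
      M ≤ quadSimilarityGroup Q ⊓ spGL 4 F) := by
  have hι : Fintype.card (Fin 4 ⊕ Fin 4) = 8 := by simp
  have hq1 := Cfsg.Agent.H884.El.one_lt_q F
  have hFn : Nat.card F = p ^ f := by rw [Nat.card_eq_fintype_card, hF]
  have hod := od_of_pp hF hf (by norm_num) hr
  have hrq : PP (Nat.card F) 8 r := by
    rw [hFn]
    exact Cfsg.Agent.H884.El.PP.of_pow hr hf
  have hrd := hrq.lt (by omega)
  have hdvd := card_dvd_of_mem hr.prime hy hyr hy1
  have hirr : ∀ W : Submodule F (Fin 4 ⊕ Fin 4 → F), M ≤ subspaceStabilizer W → W = ⊥ ∨ W = ⊤ := fun W hW =>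
    irr_of_od (by rw [hι]; exact hod) hyr hy1 W (fun v hv =>
      (Cfsg.Agent.H918.mem_subspaceStabilizer.1 (hW hy) v).1 hv)
  have hdec : ∀ (t k : ℕ) (D : Fin t → Submodule F (Fin 4 ⊕ Fin 4 → F)), k < 6 → t < 6 → IsMDecomposition k D →
      ¬ M ≤ decompositionStabilizer D := by
    intro t k D hk ht hD hH
    have := Cfsg.Agent.H884.El.decomp_le hD hH hrq (by omega) hdvd
    omega
  rcases Cfsg.Agent.S5823.result M hM with ⟨W, h1, h2, rfl⟩ | ⟨W, h1, h2, h3, rfl⟩ | ⟨-, D, hD, rfl⟩ | ⟨D, hD, rfl⟩ |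
    ⟨-, D, hD, -, rfl⟩ | ⟨K, h1, h2, -, rfl⟩ | ⟨h, -⟩ | ⟨h, -⟩ |
    ⟨F₀, s, P, ζ, hs, hcard, -, -, rfl⟩ | ⟨p', R, hp', hpo, hpc, -⟩ | ⟨h, -⟩ |
    ⟨-, Q, h1, h2, rfl⟩ | h
  · exfalso
    rcases hirr W inf_le_left with h | h
    · exact h1 h
    · exact totallySingular_ne_top (by norm_num) h2 h
  · exfalso
    rcases hirr W inf_le_left with h | h
    · exact h1 h
    · rw [h, finrank_top, Module.finrank_fintype_fun_eq_card, hι] at h3
      omega
  · exact absurd inf_le_left (hdec 4 2 D (by norm_num) (by norm_num) hD.decomp)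
  · exact absurd inf_le_left (hdec 2 4 D (by norm_num) (by norm_num) hD.decomp)
  · exact absurd inf_le_left (hdec 2 4 D (by norm_num) (by norm_num) hD)
  · exact Or.inl ⟨K, h1, h2, inf_le_left⟩
  · exact absurd h he
  · exact absurd h he
  · exact (Cfsg.Agent.H884.El.kill_subfield inf_le_left hs (by rw [Nat.card_eq_fintype_card]; exact hcard) hp hFn hr
      (by rw [hι]; omega) (by omega) hdvd).elim
  · exact absurd (by rw [hpc]; exact hpo) he
  · exact absurd h he
  · exact Or.inr ⟨Q, h1, h2, le_rfl⟩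
  · exfalso
    obtain ⟨P, p', -, hp', hch, h | h | h | h | h | h⟩ := Cfsg.Agent.S5824.result M hM h
    · obtain ⟨-, h1, h2, -⟩ := h
      exact he (by rw [h1]; exact hp'.odd_of_ne_two (by omega))
    · obtain ⟨-, h | h⟩ := h
      · obtain ⟨h1, h2⟩ := h
        have h3 : p' ≠ 2 := by
          rintro rfl
          omega
        exact he (by rw [h1]; exact hp'.odd_of_ne_two h3)
      · obtain ⟨h1, h2, -⟩ := h
        exact he (by rw [h1]; exact (hp'.odd_of_ne_two h2).pow)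
    · obtain ⟨-, h | h⟩ := h
      · obtain ⟨h1, h2⟩ := h
        have h3 : p' ≠ 2 := by
          rintro rfl
          omega
        exact he (by rw [h1]; exact hp'.odd_of_ne_two h3)
      · obtain ⟨h1, h2⟩ := h
        have h3 : p' ≠ 2 := by
          rintro rfl
          omega
        exact he (by rw [h1]; exact (hp'.odd_of_ne_two h3).pow)
    · omega
    · have h1 := h.2
      have h2 : p' = p := by
        have h3 : (Fintype.card F : F) = 0 := FiniteField.cast_card_eq_zero F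
        have h4 : p' ∣ Fintype.card F := (CharP.cast_eq_zero_iff F p' _).1 h3
        rw [hF] at h4
        exact (Nat.prime_dvd_prime_iff_eq hp' hp).1 (hp'.dvd_of_dvd_pow h4)
      apply he
      rw [hF]
      exact (hp.odd_of_ne_two (by omega)).pow
    · exact he h.2

/-- the similarities of `Q` which preserve the polar form are isometries -/
theorem quadSim_inf_le {m : ℕ} (hm : 1 ≤ m) {Q : (Fin m ⊕ Fin m → F) → F}
    (hQ : ∀ u v, QuadraticMap.polar Q u v = sympForm m F u v) :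
    quadSimilarityGroup Q ⊓ spGL m F ≤ isometryGroup F Q := by
  rintro g ⟨⟨c, hc⟩, hg⟩
  have hadd : ∀ u v, Q (u + v) = Q u + Q v + sympForm m F u v := by
    intro u v
    rw [← hQ, QuadraticMap.polar]
    ring
  have key : ∀ u v : Fin m ⊕ Fin m → F, sympForm m F u v = c * sympForm m F u v := by
    intro u v
    have h1 := hadd ((g : Matrix _ _ F) *ᵥ u) ((g : Matrix _ _ F) *ᵥ v)
    have h3 : sympForm m F ((g : Matrix _ _ F) *ᵥ u) ((g : Matrix _ _ F) *ᵥ v) = sympForm m F u v := hg u v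
    rw [← Matrix.mulVec_add, hc, hc, hc, hadd u v, h3] at h1
    linear_combination -h1
  have h2 := key (Pi.single (Sum.inr ⟨0, hm⟩) 1) (Pi.single (Sum.inl ⟨0, hm⟩) 1)
  rw [sympForm_single_inr_left, Pi.single_eq_same, mul_one] at h2
  intro u _
  change Q ((g : Matrix _ _ F) *ᵥ u) = Q u
  rw [hc, ← h2, one_mul]

/-- a subgroup of `Sp₈(q)`, `q ≥ 4`, with elements of orders `r₈`, `r₆` -/
theorem sp8 (hp : p.Prime) (hf : 1 ≤ f) (hF : Fintype.card F = p ^ f) (hq : 4 ≤ Fintype.card F)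
    (hr : PP p (f * 8) r) (hs : PP p (f * 6) s) {H : Subgroup (GL (Fin 4 ⊕ Fin 4) F)} (hH : H ≤ spGL 4 F)
    {y z : GL (Fin 4 ⊕ Fin 4) F} (hy : y ∈ H) (hyo : orderOf y = r) (hz : z ∈ H) (hzo : orderOf z = s) :
    spGL 4 F ≤ H ∨ ((2 : F) = 0 ∧ ∃ Q : (Fin 4 ⊕ Fin 4 → F) → F, IsNondegenerateQuadraticForm Q ∧
      (∀ u v, QuadraticMap.polar Q u v = sympForm 4 F u v) ∧ H ≤ isometryGroup F Q) := by
  by_cases hle : spGL 4 F ≤ H
  · exact Or.inl hle
  right
  have hfp := Fact.mk hp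
  have hchar : CharP F p := charP_of_card_eq_prime_pow hF
  have hyr : y ^ r = 1 := by rw [← hyo, pow_orderOf_eq_one]
  have hzs : z ^ s = 1 := by rw [← hzo, pow_orderOf_eq_one]
  have hy1 : y ≠ 1 := by
    rintro rfl
    rw [orderOf_one] at hyo
    exact hr.prime.one_lt.ne hyo
  have hz1 : z ≠ 1 := by
    rintro rfl
    rw [orderOf_one] at hzo
    exact hs.prime.one_lt.ne hzo
  obtain ⟨M, hM, hHM⟩ := exists_max' (lt_of_le_of_ne hH (fun h => hle h.ge))
  have hK : ∀ K : Subalgebra F (Matrix (Fin 4 ⊕ Fin 4) (Fin 4 ⊕ Fin 4) F), IsFieldSubalgebra 2 K →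
      IsSelfAdjointFor (sympForm 4 F) K → M ≤ subalgebraNormalizer K → False := by
    intro K h1 h2 h3
    refine Cfsg.Agent.H118.BS.no_quad_odd (hH hz) (r := s) (j := 3) ?_ (by decide) (by norm_num) hzs hz1 h1 h2 (h3 (hHM hz))
    rw [Nat.card_eq_fintype_card, hF]
    exact Cfsg.Agent.H884.El.PP.of_pow hs hf
  by_cases hodd : Odd (Fintype.card F)
  · exfalso
    rcases classA hp hchar hf hF hodd hr (fun H h1 h2 => Cfsg.Agent.S5824.result H h1 h2) hM (hHM hy) hyr hy1 with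
      ⟨K, h1, h2, h3⟩ | ⟨P, hP, ⟨e⟩, -⟩
    · exact hK K h1 h2 h3
    · have hod := od_of_pp hF hf (by norm_num) hs
      have hlt := hod.lt
      have hsc : z ∉ scalars (Fin 4 ⊕ Fin 4) F := by
        intro h
        apply hz1
        refine eq_one_of_scalar h hs.prime hzs ?_
        intro h7
        have h9 := (hod.dvd_iff Fintype.card_pos 1).1 (by rwa [pow_one])
        have := Nat.le_of_dvd one_pos h9
        omega
      have h7 : 6 ∣ s - 1 := (Dvd.intro_left f rfl).trans (hs.dvd_sub_one (by omega))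
      rcases aut17 hs.prime (dvd_aut hP e (hHM hz) hs.prime hzs hsc) with h9 | h9 | h9 <;> omega
  · rcases even_cases hp hf hF hq hodd hr hM (hHM hy) hyr hy1 with ⟨K, h1, h2, h3⟩ | ⟨Q, h1, h2, h3⟩
    · exact (hK K h1 h2 h3).elim
    · refine ⟨?_, Q, h1, h2, hHM.trans (h3.trans (quadSim_inf_le (by norm_num) h2))⟩
      have h4 : p = 2 := by
        by_contra h5
        exact hodd (by rw [hF]; exact (hp.odd_of_ne_two h5).pow)
      have h5 := CharP.cast_eq_zero F p
      rw [h4] at h5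
      exact_mod_cast h5

end Cfsg.Agent.H559.Rs
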