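import Cfsg.Agent.H559.Rs.Orth8
import Cfsg.Agent.H559.Rs.Sp8
import Cfsg.Agent.H925.Rs.Pair
import Cfsg.Agent.H159.SpEnd
import Cfsg.Agent.H887.OmegaBridge
import Cfsg.Agent.LieClassical.OrthFinite

/-!
# S3691, piece S1 of helper925: dimension 8 (helper559)

* `dim8` : a group of isometries of a nondegenerate alternating form of dimension 8 over `F_q`, `q ≥ 4`, with elements of orders
  `r₈` and `r₆`, is the full isometry group or `q` is even and it contains `Ω(Q)`, `Q` a quadratic form with polar form `B`.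
-/

set_option autoImplicit false
set_option linter.unusedSectionVars false

namespace Cfsg.Agent.H559.Rs

open Cfsg Cfsg.Geo Matrix Module
open Cfsg.Agent.ClassicalGeometry.SympBasic
open Cfsg.Agent.H884.El (PP)
open Cfsg.Agent.H925.Rs (Isos nondeg_of)
open Cfsg.Agent.H887.OmegaBridge
open Cfsg.Agent.LieClassical.OrthCore
open scoped MatrixGroups

section Transfer

variable {F : Type} [Field F] {V : Type*} [AddCommGroup V] [Module F V] {ι : Type} [Fintype ι] [DecidableEq ι]

/-- the automorphisms of `V` as matrices -/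
noncomputable def cg (e : V ≃ₗ[F] (ι → F)) : (V ≃ₗ[F] V) ≃* GL ι F :=
  MulEquiv.trans
    { toFun := fun g => (e.symm.trans g).trans e
      invFun := fun g => (e.trans g).trans e.symm
      left_inv := fun g => by ext v; simp
      right_inv := fun g => by ext v; simp
      map_mul' := fun g h => by
        apply LinearEquiv.ext
        intro w
        change e (g (h (e.symm w))) = e (g (e.symm (e (h (e.symm w)))))
        rw [LinearEquiv.symm_apply_apply] }
    (le ι F).symm

theorem cg_apply (e : V ≃ₗ[F] (ι → F)) (g : V ≃ₗ[F] V) (v : V) :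
    ((cg e g : GL ι F) : Matrix ι ι F) *ᵥ (e v) = e (g v) := by
  have h1 : ((cg e g : GL ι F) : Matrix ι ι F) *ᵥ (e v) = e (g (e.symm (e v))) := le_symm_mulVec _ _
  rw [h1, LinearEquiv.symm_apply_apply]

theorem mem_of_map (e : V ≃ₗ[F] (ι → F)) {H : Subgroup (V ≃ₗ[F] V)} {x : V ≃ₗ[F] V}
    (h : cg e x ∈ H.map (cg e).toMonoidHom) : x ∈ H := by
  obtain ⟨y, hy, hyx⟩ := h
  have : y = x := (cg e).injective hyx
  rwa [← this]

end Transfer

variable {F : Type} [Field F] [Fintype F] {V : Type*} [AddCommGroup V] [Module F V] [FiniteDimensional F V]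

/-- **dimension 8** -/
theorem dim8 {B : LinearMap.BilinForm F V} {p f : ℕ} (hp : p.Prime) (hf : 1 ≤ f) (hdim : finrank F V = 8)
    (hq : 4 ≤ Fintype.card F) (hF : Fintype.card F = p ^ f) (hB : ∀ x, B x x = 0) (hnd : ∀ x, (∀ y, B x y = 0) → x = 0)
    {H : Subgroup (V ≃ₗ[F] V)} (hH : H ≤ Isos B) {r s : ℕ} (hr : r.Prime) (ho : orderOf (p : ZMod r) = f * 8)
    (hs : s.Prime) (ho' : orderOf (p : ZMod s) = f * 6) (hrH : r ∣ Nat.card H) (hsH : s ∣ Nat.card H) :
    Isos B ≤ H ∨ ((2 : F) = 0 ∧ ∃ Q : QuadraticForm F V, (∀ u v, QuadraticMap.polar Q u v = B u v) ∧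
      LieClassical.OrthCore.E Q ≤ H) := by
  have hfinV : Finite V := Module.finite_of_finite F
  have hfinG : Finite (V ≃ₗ[F] V) := Finite.of_injective (fun g : V ≃ₗ[F] V => (g : V → V)) DFunLike.coe_injective
  have fr := Fact.mk hr
  have fs := Fact.mk hs
  obtain ⟨y, hy⟩ := exists_prime_orderOf_dvd_card' (G := H) r hrH
  obtain ⟨z, hz⟩ := exists_prime_orderOf_dvd_card' (G := H) s hsH
  have hy' : orderOf (y : V ≃ₗ[F] V) = r := by rw [Subgroup.orderOf_coe, hy]
  have hz' : orderOf (z : V ≃ₗ[F] V) = s := by rw [Subgroup.orderOf_coe, hz]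
  have hord : ∀ {ι : Type} [Fintype ι] [DecidableEq ι] (e : V ≃ₗ[F] (ι → F)) (x : V ≃ₗ[F] V),
      orderOf (cg e x) = orderOf x := fun e x => orderOf_injective (cg e).toMonoidHom (cg e).injective x
  obtain ⟨b, hb⟩ := H159.exists_symp_basis B hB (nondeg_of hB hnd) (n := 4) hdim
  have hform : ∀ u v : V, sympForm 4 F (b.equivFun u) (b.equivFun v) = - B u v := by
    intro u v
    change sympForm 4 F (b.repr u) (b.repr v) = - B u v
    rw [LinearMap.BilinForm.apply_eq_dotProduct_toMatrix_mulVec b B u v, hb, sympForm_def, Matrix.neg_mulVec,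
      dotProduct_neg, neg_neg]
  have hsp : ∀ x : V ≃ₗ[F] V, x ∈ Isos B → cg b.equivFun x ∈ spGL 4 F := by
    intro x hx u v
    obtain ⟨u, rfl⟩ := b.equivFun.surjective u
    obtain ⟨v, rfl⟩ := b.equivFun.surjective v
    change sympForm 4 F (((cg b.equivFun x : GL _ F) : Matrix _ _ F) *ᵥ (b.equivFun u))
      (((cg b.equivFun x : GL _ F) : Matrix _ _ F) *ᵥ (b.equivFun v)) = _
    rw [cg_apply, cg_apply, hform, hform]
    congr 1
    exact hx u v
  have hHc : H.map (cg b.equivFun).toMonoidHom ≤ spGL 4 F := by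
    rintro _ ⟨x, hx, rfl⟩
    exact hsp x (hH hx)
  rcases sp8 hp hf hF hq ⟨hr, ho⟩ ⟨hs, ho'⟩ hHc (y := cg b.equivFun y) (z := cg b.equivFun z) ⟨_, y.2, rfl⟩
    (by rw [hord, hy']) ⟨_, z.2, rfl⟩ (by rw [hord, hz']) with h | ⟨h2, Q', hQ1, hQ2, hQ3⟩
  · left
    intro x hx
    exact mem_of_map b.equivFun (h (hsp x hx))
  · right
    set Q : QuadraticForm F V := (qf Q' hQ1).comp (b.equivFun : V →ₗ[F] (Fin 4 ⊕ Fin 4 → F)) with hQ
    have hQa : ∀ v, Q v = Q' (b.equivFun v) := fun v => rfl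
    have hpol : ∀ u v, QuadraticMap.polar Q u v = B u v := by
      intro u v
      have h3 : QuadraticMap.polar Q u v = QuadraticMap.polar Q' (b.equivFun u) (b.equivFun v) := by
        rw [QuadraticMap.polar, QuadraticMap.polar, hQa, hQa, hQa, map_add]
      rw [h3, hQ2, hform]
      linear_combination (- B u v) * h2
    refine ⟨h2, Q, hpol, ?_⟩
    have hQn : Nondeg Q := fun x hx => hnd x fun y => by rw [← hpol]; exact hx y
    have hG := Cfsg.Agent.LieClassical.OrthFinite.good_of_finite hQn (by rw [hdim]; norm_num)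
    let e : V ≃ₗ[F] (Fin 8 → F) := (Module.finBasisOfFinrankEq F V hdim).equivFun
    let Q8 : QuadraticForm F (Fin 8 → F) := Q.comp (e.symm : (Fin 8 → F) →ₗ[F] V)
    have h8a : ∀ v, Q8 (e v) = Q v := by
      intro v
      change Q (e.symm (e v)) = Q v
      rw [LinearEquiv.symm_apply_apply]
    have h8n : Nondeg Q8 := by
      intro x hx
      obtain ⟨x, rfl⟩ := e.surjective x
      rw [hQn x fun y => ?_, map_zero]
      have h3 := hx (e y)
      rw [QuadraticMap.polar, ← map_add, h8a, h8a, h8a] at h3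
      exact h3
    have hiso : ∀ x : V ≃ₗ[F] V, (∀ v, Q (x v) = Q v) → cg e x ∈ isometryGroup F (⇑Q8) := by
      intro x hx
      rw [mem_isometryGroup]
      intro v
      obtain ⟨v, rfl⟩ := e.surjective v
      rw [cg_apply, h8a, h8a, hx]
    have hHQ : ∀ x ∈ H, ∀ v, Q (x v) = Q v := by
      intro x hx v
      have h3 := mem_isometryGroup.1 (hQ3 ⟨x, hx, rfl⟩) (b.equivFun v)
      change Q' (((cg b.equivFun x : GL _ F) : Matrix _ _ F) *ᵥ (b.equivFun v)) = _ at h3
      rw [cg_apply] at h3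
      exact h3
    have hH8 : H.map (cg e).toMonoidHom ≤ isometryGroup F (⇑Q8) := by
      rintro _ ⟨x, hx, rfl⟩
      exact hiso x (hHQ x hx)
    have h3 := orth8 h8n hp hf (by rw [Nat.card_eq_fintype_card, hF]) (by rw [Nat.card_eq_fintype_card]; omega)
      ⟨hr, ho⟩ ⟨hs, ho'⟩ hH8 (a := cg e y) (b := cg e z) ⟨_, y.2, rfl⟩ (by rw [hord, hy']) ⟨_, z.2, rfl⟩
      (by rw [hord, hz'])
    have h4 : (O Q).map (cg e).toMonoidHom ≤ isometryGroup F (⇑Q8) := by
      rintro _ ⟨x, hx, rfl⟩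
      exact hiso x hx
    have h5 : (E Q).map (cg e).toMonoidHom ≤ omegaGL (⇑Q8) := by
      rw [← hG.commutator_eq_E, Subgroup.map_commutator, omegaGL_eq]
      exact Subgroup.commutator_mono h4 h4
    intro x hx
    exact mem_of_map e (h3 (h5 ⟨x, hx, rfl⟩))

end Cfsg.Agent.H559.Rs
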