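import Cfsg.Agent.H975.Cov.Kill
import Cfsg.Agent.H957.Bridge

/-!
# Subgroups of `O⁻₈(q)` with elements of orders `r₈` and `r₆` (S3691, piece S1, helper559)
-/

set_option autoImplicit false
set_option linter.unusedSectionVars false

namespace Cfsg.Agent.H559.Rs

open Module QuadraticMap Cfsg Cfsg.Geo Cfsg.Agent.LieClassical.OrthCore Cfsg.Agent.H955 Cfsg.Agent.H954.TSing
open Cfsg.Agent.H884.El
open Cfsg.Agent.H951 (fx cm Inv)
open Cfsg.Agent.H975.Cov
open scoped MatrixGroups Matrix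

variable {F : Type} [Field F] [Fintype F] {Q : QuadraticForm F (Fin 8 → F)} {H : Subgroup (GL (Fin 8) F)} {p f r s : ℕ}

/-- an isometry of order `r₈`: the form is not of plus type -/
theorem not_plus (hQ : Nondeg Q) (hr : PP (Nat.card F) 8 r) {a : GL (Fin 8) F} (ha : a ∈ Cfsg.isometryGroup F (⇑Q))
    (hao : orderOf a = r) : ¬ IsPlus Q := by
  intro hP
  obtain ⟨hiso, ha1⟩ := iso_of hr (by norm_num) ha hao
  obtain ⟨hcm, hm⟩ := hiso.even_case hQ ha1 hr (by decide) (by rw [finV]; norm_num)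
  have hadd := hiso.finrank_add
  rw [finV] at hadd
  have h0 : finrank F (fx (lin a)) = 0 := by omega
  have h1 := (hiso.isPlus_fx hQ (by rw [finV]; decide) (by rw [hcm]; decide)).1 hP
  apply hm
  apply h1.2
  refine ⟨⊥, ?_, ?_⟩
  · intro u hu
    rw [(Submodule.mem_bot F).1 hu]
    exact QuadraticMap.map_zero _
  · rw [finrank_bot, h0]

theorem exists_max {A : Type*} [Group A] [Finite A] {K H : Subgroup A} (h : H < K) : ∃ M, IsMaximalIn K M ∧ H ≤ M := by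
  obtain ⟨M, hHM, hM⟩ := (Set.toFinite {N : Subgroup A | N < K}).exists_le_maximal h
  refine ⟨M, ⟨hM.prop, fun N hMN hNK => ?_⟩, hHM⟩
  by_cases hN : N = K
  · exact Or.inr hN
  · exact Or.inl (hM.eq_of_le (lt_of_le_of_ne hNK hN) hMN).symm

/-- a subgroup of an orthogonal group of dimension 8 with elements of orders `r₈`, `r₆` contains `Ω` (`q ≠ 2`) -/
theorem orth8 (hQ : Nondeg Q) (hp : p.Prime) (hf : 1 ≤ f) (hF : Nat.card F = p ^ f) (hq : Nat.card F ≠ 2)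
    (hr : PP p (f * 8) r) (hs : PP p (f * 6) s) (hH : H ≤ Cfsg.isometryGroup F (⇑Q)) {a b : GL (Fin 8) F}
    (ha : a ∈ H) (hao : orderOf a = r) (hb : b ∈ H) (hbo : orderOf b = s) : omegaGL (⇑Q) ≤ H := by
  obtain ⟨r3, h3, h3f⟩ := exists_r3 hp hf hF
  have n : Num F p f r s r3 := ⟨hp, hf, hF, hr, h3, h3f, Or.inr ⟨hq, hs⟩⟩
  have hP := not_plus hQ n.h8q (hH ha) hao
  have hmem : ∀ {g : GL (Fin 8) F}, g ∈ H → Odd (orderOf g) → g ∈ H ⊓ omegaGL (⇑Q) := fun {g} hg hodd =>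
    ⟨hg, H957.mem_omegaGL_of_odd Q (nondeg_iff.1 hQ) (Or.inr (by rw [Fintype.card_fin]; norm_num)) hodd g (hH hg)
      (pow_orderOf_eq_one g)⟩
  by_contra hcon
  have hlt : H ⊓ omegaGL (⇑Q) < omegaGL (⇑Q) :=
    lt_of_le_of_ne inf_le_right (fun h => hcon (by rw [← h]; exact inf_le_left))
  obtain ⟨M, hM, hHM⟩ := exists_max hlt
  obtain ⟨X, U, hB⟩ := bp_prime hQ hP (by rw [hF]; exact hs.of_pow hf) (hH hb) hbo
  exact ab_false n hQ hP hM (hHM (hmem ha (by rw [hao]; exact n.h8q.odd (by norm_num)))) hao (hHM (hmem hb hB.odd)) hB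

end Cfsg.Agent.H559.Rs
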